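import Groth.Agent.Lib.SSTrace25.Page
import Groth.Agent.Lib.SpSeqBasic25.Stationary
import Mathlib.Algebra.Order.Antidiag.Prod
import Mathlib.Topology.Algebra.InfiniteSum.Constructions

/-!
# Alternating sum of traces on the abutment
-/

set_option autoImplicit false
set_option linter.all false

universe u

open CategoryTheory CategoryTheory.Limits

namespace GrothLib.SSTrace25

theorem tsum_antidiagonal {g : ℕ × ℕ → ℂ} (hs : Summable g) :
    ∑' n : ℕ, ∑ pq ∈ Finset.antidiagonal n, g pq = ∑' pq, g pq := by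
  let e : (Σ n : ℕ, Finset.antidiagonal n) ≃ ℕ × ℕ := Finset.HasAntidiagonal.sigmaAntidiagonalEquivProd
  have h1 : Summable fun x => g (e x) := e.summable_iff.2 hs
  rw [← e.tsum_eq g, h1.tsum_sigma]
  exact tsum_congr fun n => (Finset.tsum_subtype (Finset.antidiagonal n) g).symm

theorem sesOfShortExact (S : ShortComplex (ModuleCat.{u} (Polynomial ℂ))) (h : S.ShortExact) :
    Nonempty (SES S.X₁ S.X₂ S.X₃) :=
  ⟨⟨S.f, S.g, h.moduleCat_injective_f, h.moduleCat_surjective_g,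
    (ShortComplex.ShortExact.moduleCat_exact_iff_function_exact S).1 h.exact⟩⟩

variable {N : ℕ} {a c : ℕ → ℝ} {b d : ℕ → ℕ}

/-- All later pages satisfy the bounds and have the same alternating sum. -/
theorem page_all (E : CohomologicalSpectralSequence (ModuleCat.{u} (Polynomial ℂ)) 2)
    (ha : ∀ q, 0 ≤ a q) (hc : ∀ p, 0 ≤ c p) (hsum : Summable fun p : ℕ => c p * (d p : ℝ))
    (h : Cond (E.page 2 le_rfl).X N a c b d) :
    ∀ (r : ℤ) (hr : 2 ≤ r), Cond (E.page r hr).X N a c b d ∧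
      ∑' x, sgn x * tr ((E.page r hr).X x) = ∑' x, sgn x * tr ((E.page 2 le_rfl).X x) := by
  intro r hr
  have : ∀ (r : ℤ), 2 ≤ r → ∀ hr : 2 ≤ r, Cond (E.page r hr).X N a c b d ∧
      ∑' x, sgn x * tr ((E.page r hr).X x) = ∑' x, sgn x * tr ((E.page 2 le_rfl).X x) := by
    intro r h2
    induction r, h2 using Int.le_induction with
    | base => exact fun _ => ⟨h, rfl⟩
    | succ n hn ih =>
      intro hr
      obtain ⟨h1, h2⟩ := page_succ E n hn hr ha hc hsum (ih hn).1
      exact ⟨h1, h2.trans (ih hn).2⟩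
  exact this r hr hr

/-- The trace of the abutment in one degree. -/
theorem tr_abutment (E : CohomologicalSpectralSequence (ModuleCat.{u} (Polynomial ℂ)) 2)
    {H : ℤ → ModuleCat.{u} (Polynomial ℂ)} (ab : SpSeq.Abutment E H) (hfin : ∀ n, ab.IsFinite n)
    (ha : ∀ q, 0 ≤ a q) (hc : ∀ p, 0 ≤ c p) (hsum : Summable fun p : ℕ => c p * (d p : ℝ))
    (h : Cond (E.page 2 le_rfl).X N a c b d) (hr : (2 : ℤ) ≤ N + 2) (n : ℕ) :
    tr (H n) = ∑ p ∈ Finset.range (n + 1),
      tr ((E.page (N + 2) hr).X ((p : ℤ), ((n - p : ℕ) : ℤ))) := by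
  have hC : ∀ r hr', Cond (E.page r hr').X N a c b d := fun r hr' => (page_all E ha hc hsum h r hr').1
  have hst : ∀ x, SpSeq.StationaryAt E x (N + 2) := by
    intro x
    refine ⟨hr, fun r h0 hle => ?_⟩
    by_cases hx : 0 ≤ x.1 ∧ 0 ≤ x.2 ∧ x.2 ≤ N
    · refine ⟨((hC r h0).isZero _ ?_).eq_of_src _ _, ((hC r h0).isZero _ ?_).eq_of_tgt _ _⟩
      · simp only [Prod.fst_sub, Prod.snd_sub]; omega
      · simp only [Prod.fst_add, Prod.snd_add]; omega
    · exact ⟨((hC r h0).isZero x hx).eq_of_tgt _ _, ((hC r h0).isZero x hx).eq_of_src _ _⟩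
  have hgr : ∀ p : ℤ, Nonempty (SpSeq.grPiece (ab.fil n) (ab.anti n) p ≅
      (E.page (N + 2) hr).X (p, (n : ℤ) - p)) := by
    intro p
    obtain ⟨j⟩ := GrothLib.SpSeqBasic25.nonempty_iso_abutment E ab (p, (n : ℤ) - p) (hst _)
    have e : ∀ m : ℤ, m = n →
        ((E.page (ab.rk (p, (n : ℤ) - p)) (ab.stat (p, (n : ℤ) - p)).1).X (p, (n : ℤ) - p) ≅
          SpSeq.grPiece (ab.fil m) (ab.anti m) p) →
        Nonempty (SpSeq.grPiece (ab.fil n) (ab.anti n) p ≅ (E.page (N + 2) hr).X (p, (n : ℤ) - p)) := by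
      rintro _ rfl k
      exact ⟨k.symm ≪≫ j⟩
    exact e _ (show p + ((n : ℤ) - p) = n by omega) (ab.β (p, (n : ℤ) - p))
  obtain ⟨⟨lo, hlo⟩, ⟨hi, hhi⟩⟩ := hfin n
  change ab.fil n lo = ⊤ at hlo
  change ab.fil n hi = ⊥ at hhi
  have hlo' : ab.fil n (min lo 0) = ⊤ :=
    top_le_iff.1 (hlo.ge.trans (ab.anti n (min_le_left lo 0)))
  have hhi' : ab.fil n (max hi ((n : ℤ) + 1)) = ⊥ :=
    le_bot_iff.1 ((ab.anti n (le_max_left hi ((n : ℤ) + 1))).trans hhi.le)
  let f : ℤ → ℂ := fun p => tr ((E.page (N + 2) hr).X (p, (n : ℤ) - p))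
  have hB : ∀ k, k ≤ max hi ((n : ℤ) + 1) →
      Module.Finite ℂ (Res (ab.fil n k : ModuleCat.{u} (Polynomial ℂ))) ∧
        tr (ab.fil n k : ModuleCat.{u} (Polynomial ℂ)) = ∑ p ∈ Finset.Ico k (max hi ((n : ℤ) + 1)), f p := by
    intro k hk
    induction k, hk using Int.le_induction_down with
    | base =>
      have hz : ∀ T : Subobject (H n), T = ⊥ → IsZero (T : ModuleCat.{u} (Polynomial ℂ)) := by
        rintro _ rfl
        exact (isZero_zero _).of_iso Subobject.botCoeIsoZero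
      exact ⟨finite_of_isZero (hz _ hhi'), by rw [tr_of_isZero (hz _ hhi')]; simp⟩
    | pred m hm ih =>
      have hle : m - 1 ≤ m := by omega
      let g := (ab.fil n m).ofLE (ab.fil n (m - 1)) (ab.anti n hle)
      obtain ⟨s⟩ := sesOfShortExact (ShortComplex.mk g (cokernel.π g) (cokernel.condition g))
        { exact := ShortComplex.exact_cokernel g
          mono_f := inferInstanceAs (Mono g)
          epi_g := inferInstanceAs (Epi (cokernel.π g)) }
      obtain ⟨j⟩ := hgr (m - 1)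
      have e : ∀ (k : ℤ) (hk : k = m),
          cokernel g ≅ cokernel ((ab.fil n k).ofLE (ab.fil n (m - 1)) (ab.anti n (hk ▸ hle))) := by
        rintro _ rfl
        exact Iso.refl _
      let j' : cokernel g ≅ (E.page (N + 2) hr).X (m - 1, (n : ℤ) - (m - 1)) :=
        e (m - 1 + 1) (sub_add_cancel m 1) ≪≫ j
      haveI : Module.Finite ℂ (Res (ab.fil n m : ModuleCat.{u} (Polynomial ℂ))) := ih.1
      haveI : Module.Finite ℂ (Res (cokernel g)) :=
        haveI := (hC (N + 2) hr).2.1 (m - 1, (n : ℤ) - (m - 1))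
        Module.Finite.equiv ((ModuleCat.restrictScalars (algebraMap ℂ (Polynomial ℂ))).mapIso j').toLinearEquiv.symm
      haveI : Module.Finite ℂ (Res (ab.fil n (m - 1) : ModuleCat.{u} (Polynomial ℂ))) := s.finite_mid
      refine ⟨inferInstance, ?_⟩
      rw [show Finset.Ico (m - 1) (max hi ((n : ℤ) + 1)) = insert (m - 1) (Finset.Ico m (max hi ((n : ℤ) + 1)))
          by ext x; simp only [Finset.mem_Ico, Finset.mem_insert]; omega,
        Finset.sum_insert (by simp), ← ih.2]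
      refine s.tr_eq.trans ?_
      rw [add_comm]
      exact congrArg (· + _) (tr_iso j')
  have ht := (hB (min lo 0) ((min_le_right lo 0).trans (by omega))).2
  haveI : IsIso (ab.fil n (min lo 0)).arrow := (Subobject.isIso_arrow_iff_eq_top _).2 hlo'
  rw [tr_iso (asIso (ab.fil n (min lo 0)).arrow)] at ht
  rw [ht]
  symm
  refine Finset.sum_of_injOn (fun p : ℕ => (p : ℤ)) (Nat.cast_injective.injOn) ?_ ?_ ?_
  · intro p hp
    simp only [Finset.coe_range, Set.mem_Iio] at hp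
    simp only [Finset.coe_Ico, Set.mem_Ico]
    omega
  · intro p hp hnp
    refine tr_of_isZero ((hC (N + 2) hr).1 _ ?_)
    by_contra hh
    push Not at hh
    refine hnp ⟨p.toNat, ?_, Int.toNat_of_nonneg hh.1⟩
    simp only [Finset.coe_range, Set.mem_Iio]
    have := hh.2
    omega
  · intro p hp
    simp only [Finset.mem_range] at hp
    simp only [f]
    rw [Nat.cast_sub (by omega : p ≤ n)]

/-- The alternating sum on the abutment. -/
theorem tsum_abutment (E : CohomologicalSpectralSequence (ModuleCat.{u} (Polynomial ℂ)) 2)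
    {H : ℤ → ModuleCat.{u} (Polynomial ℂ)} (ab : SpSeq.Abutment E H) (hfin : ∀ n, ab.IsFinite n)
    (ha : ∀ q, 0 ≤ a q) (hc : ∀ p, 0 ≤ c p) (hsum : Summable fun p : ℕ => c p * (d p : ℝ))
    (h : Cond (E.page 2 le_rfl).X N a c b d) :
    Summable (fun n : ℕ => ‖tr (H n)‖) ∧
      ∑' n : ℕ, (-1 : ℂ) ^ n * tr (H n) =
        ∑' pq : ℕ × ℕ, (-1 : ℂ) ^ (pq.1 + pq.2) * tr ((E.page 2 le_rfl).X ((pq.1 : ℤ), (pq.2 : ℤ))) := by
  have hr : (2 : ℤ) ≤ N + 2 := by omega
  obtain ⟨hC, hS⟩ := page_all E ha hc hsum h (N + 2) hr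
  let g : ℕ × ℕ → ℂ := fun pq =>
    (-1 : ℂ) ^ (pq.1 + pq.2) * tr ((E.page (N + 2) hr).X ((pq.1 : ℤ), (pq.2 : ℤ)))
  have hg : Summable fun pq => ‖g pq‖ := by
    refine ((hC.summable_norm ha hc hsum).comp_injective cast_injective).congr fun pq => ?_
    show ‖sgn _ * _‖ = ‖g pq‖
    rw [sgn_natCast]
  let e := Finset.HasAntidiagonal.sigmaAntidiagonalEquivProd (A := ℕ)
  have hval : ∀ n : ℕ, (-1 : ℂ) ^ n * tr (H n) = ∑ pq ∈ Finset.antidiagonal n, g pq := by
    intro n
    rw [tr_abutment E ab hfin ha hc hsum h hr n, Finset.mul_sum,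
      Finset.Nat.sum_antidiagonal_eq_sum_range_succ_mk]
    refine Finset.sum_congr rfl fun p hp => ?_
    simp only [Finset.mem_range] at hp
    simp only [g]
    rw [show p + (n - p) = n by omega]
  have hN : Summable fun n : ℕ => ∑ pq ∈ Finset.antidiagonal n, ‖g pq‖ := by
    have h1 : Summable fun x : Σ n : ℕ, Finset.antidiagonal n => ‖g (e x)‖ := e.summable_iff.2 hg
    refine h1.sigma.congr fun n => ?_
    exact Finset.tsum_subtype' (Finset.antidiagonal n) (fun pq => ‖g pq‖)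
  refine ⟨Summable.of_nonneg_of_le (fun _ => norm_nonneg _) (fun n => ?_) hN, ?_⟩
  · calc ‖tr (H n)‖ = ‖(-1 : ℂ) ^ n * tr (H n)‖ := by simp
      _ ≤ _ := by rw [hval n]; exact norm_sum_le _ _
  · rw [tsum_congr hval, tsum_antidiagonal hg.of_norm]
    exact (hC.tsum_quadrant).trans (hS.trans h.tsum_quadrant.symm)

end GrothLib.SSTrace25
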