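import Groth.Prelude.Def_SpSeq
import Groth.Agent.Lib.AltTrace.Basic
import Groth.Agent.Lib.TraceSum25.Basic
import Mathlib.Algebra.Category.ModuleCat.ChangeOfRings
import Mathlib.Algebra.Category.ModuleCat.Abelian
import Mathlib.Algebra.Category.ModuleCat.Algebra
import Mathlib.Algebra.Homology.ShortComplex.ModuleCat
import Mathlib.LinearAlgebra.Dimension.RankNullity
import Mathlib.LinearAlgebra.FiniteDimensional.Lemmas

/-!
# Traces of an endomorphism along a spectral sequence of `ℂ[X]`-modules
-/

set_option autoImplicit false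
set_option linter.all false

universe u

open CategoryTheory CategoryTheory.Limits

namespace GrothLib.SSTrace25

noncomputable abbrev Res (M : ModuleCat.{u} (Polynomial ℂ)) : ModuleCat.{u} ℂ :=
  (ModuleCat.restrictScalars (algebraMap ℂ (Polynomial ℂ))).obj M

noncomputable abbrev phi (M : ModuleCat.{u} (Polynomial ℂ)) : Res M →ₗ[ℂ] Res M :=
  ((ModuleCat.restrictScalars (algebraMap ℂ (Polynomial ℂ))).map ((Polynomial.X : Polynomial ℂ) • 𝟙 M)).hom

noncomputable abbrev tr (M : ModuleCat.{u} (Polynomial ℂ)) : ℂ := LinearMap.trace ℂ _ (phi M)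

/-- The restriction of a morphism. -/
noncomputable abbrev res {M N : ModuleCat.{u} (Polynomial ℂ)} (f : M ⟶ N) : Res M →ₗ[ℂ] Res N :=
  ((ModuleCat.restrictScalars (algebraMap ℂ (Polynomial ℂ))).map f).hom

theorem res_comp_phi {M N : ModuleCat.{u} (Polynomial ℂ)} (f : M ⟶ N) :
    res f ∘ₗ phi M = phi N ∘ₗ res f := by
  refine LinearMap.ext fun v => ?_
  exact f.hom.map_smul (Polynomial.X : Polynomial ℂ) v

/-- Finiteness, a bound on the dimension and a bound on the eigenvalues. -/
def Bd (M : ModuleCat.{u} (Polynomial ℂ)) (B : ℝ) (D : ℕ) : Prop :=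
  Module.Finite ℂ (Res M) ∧ Module.finrank ℂ (Res M) ≤ D ∧
    ∀ μ : ℂ, Module.End.HasEigenvalue (phi M) μ → ‖μ‖ ≤ B

theorem subsingleton_res {M : ModuleCat.{u} (Polynomial ℂ)} (h : IsZero M) : Subsingleton (Res M) :=
  (ModuleCat.subsingleton_of_isZero h : Subsingleton M)

theorem tr_of_isZero {M : ModuleCat.{u} (Polynomial ℂ)} (h : IsZero M) : tr M = 0 := by
  haveI := subsingleton_res h
  show LinearMap.trace ℂ _ (phi M) = 0
  rw [Subsingleton.elim (phi M) 0, map_zero]

theorem finite_of_isZero {M : ModuleCat.{u} (Polynomial ℂ)} (h : IsZero M) :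
    Module.Finite ℂ (Res M) :=
  haveI := subsingleton_res h
  inferInstance

theorem bd_of_isZero {M : ModuleCat.{u} (Polynomial ℂ)} (h : IsZero M) (B : ℝ) (D : ℕ) : Bd M B D := by
  haveI := subsingleton_res h
  refine ⟨inferInstance, ?_, fun μ hμ => ?_⟩
  · rw [Module.finrank_zero_of_subsingleton]
    exact Nat.zero_le _
  · obtain ⟨v, hv⟩ := hμ.exists_hasEigenvector
    exact absurd (Subsingleton.elim v 0) hv.2

/-- A short exact sequence of modules, as functions. -/
structure SES (A B C : ModuleCat.{u} (Polynomial ℂ)) where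
  i : A ⟶ B
  p : B ⟶ C
  inj : Function.Injective i
  surj : Function.Surjective p
  exact : Function.Exact i p

theorem SES.finite {A B C : ModuleCat.{u} (Polynomial ℂ)} (e : SES A B C) [Module.Finite ℂ (Res B)] :
    Module.Finite ℂ (Res A) ∧ Module.Finite ℂ (Res C) :=
  ⟨Module.Finite.of_injective (res e.i) e.inj, Module.Finite.of_surjective (res e.p) e.surj⟩

theorem SES.finite_mid {A B C : ModuleCat.{u} (Polynomial ℂ)} (e : SES A B C)
    [Module.Finite ℂ (Res A)] [Module.Finite ℂ (Res C)] : Module.Finite ℂ (Res B) := by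
  have h : LinearMap.range (res e.i) = LinearMap.ker (res e.p) :=
    (LinearMap.exact_iff.1 (show Function.Exact (res e.i) (res e.p) from e.exact)).symm
  refine ⟨Submodule.fg_of_fg_map_of_fg_inf_ker (res e.p) ?_ ?_⟩
  · exact IsNoetherian.noetherian _
  · rw [top_inf_eq, ← h]
    exact Module.Finite.iff_fg.1 inferInstance

theorem SES.tr_eq {A B C : ModuleCat.{u} (Polynomial ℂ)} (e : SES A B C) [Module.Finite ℂ (Res B)] :
    tr B = tr A + tr C := by
  haveI := e.finite.1
  haveI := e.finite.2
  exact GrothLib.AltTrace.trace_eq_add (i := res e.i) (q := res e.p) e.inj e.surj e.exact _ _ _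
    (res_comp_phi e.i).symm (res_comp_phi e.p)

theorem SES.bd {A B C : ModuleCat.{u} (Polynomial ℂ)} (e : SES A B C) {b : ℝ} {D : ℕ} (h : Bd B b D) :
    Bd A b D ∧ Bd C b D := by
  obtain ⟨hf, hd, he⟩ := h
  haveI := e.finite.1
  haveI := e.finite.2
  refine ⟨⟨inferInstance, (LinearMap.finrank_le_finrank_of_injective (f := res e.i) e.inj).trans hd,
    fun μ hμ => ?_⟩, ⟨inferInstance, ?_, fun μ hμ => he μ ?_⟩⟩
  · obtain ⟨v, hv⟩ := hμ.exists_hasEigenvector
    refine he μ (Module.End.hasEigenvalue_of_hasEigenvector (x := res e.i v) ⟨?_, ?_⟩)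
    · rw [Module.End.mem_eigenspace_iff]
      have h1 := LinearMap.congr_fun (res_comp_phi e.i) v
      simp only [LinearMap.comp_apply] at h1
      rw [← h1, Module.End.mem_eigenspace_iff.1 hv.1, map_smul]
    · intro h0
      exact hv.2 (e.inj (h0.trans (map_zero (res e.i)).symm))
  · refine le_trans ?_ hd
    have h1 := LinearMap.finrank_range_add_finrank_ker (res e.p)
    rw [LinearMap.range_eq_top.2 (show Function.Surjective (res e.p) from e.surj), finrank_top] at h1
    omega
  · obtain ⟨v, hv⟩ := hμ.exists_hasEigenvector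
    by_contra hne
    let f : Res B →ₗ[ℂ] Res B := phi B - μ • LinearMap.id
    let g : Res C →ₗ[ℂ] Res C := phi C - μ • LinearMap.id
    have hfi : Function.Injective f := by
      rw [injective_iff_map_eq_zero]
      intro w hw
      by_contra hw0
      refine hne (Module.End.hasEigenvalue_of_hasEigenvector (x := w) ⟨?_, hw0⟩)
      rw [Module.End.mem_eigenspace_iff]
      exact sub_eq_zero.1 hw
    have hgs : Function.Surjective g := by
      intro c
      obtain ⟨w, rfl⟩ := e.surj c
      obtain ⟨w', rfl⟩ := (LinearMap.injective_iff_surjective (f := f)).1 hfi w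
      refine ⟨res e.p w', ?_⟩
      have h1 := LinearMap.congr_fun (res_comp_phi e.p) w'
      simp only [LinearMap.comp_apply] at h1
      show phi C (res e.p w') - μ • res e.p w' = res e.p (phi B w' - μ • w')
      rw [map_sub, map_smul, h1]
    refine hv.2 ((LinearMap.injective_iff_surjective (f := g)).2 hgs ?_)
    rw [map_zero]
    exact sub_eq_zero.2 (Module.End.mem_eigenspace_iff.1 hv.1)

/-- An isomorphism as a short exact sequence with zero cokernel. -/
theorem tr_iso {M N : ModuleCat.{u} (Polynomial ℂ)} (e : M ≅ N) : tr M = tr N := by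
  let l : Res M ≃ₗ[ℂ] Res N :=
    ((ModuleCat.restrictScalars (algebraMap ℂ (Polynomial ℂ))).mapIso e).toLinearEquiv
  have h : l.conj (phi M) = phi N := by
    refine LinearMap.ext fun v => ?_
    have h1 := LinearMap.congr_fun (res_comp_phi e.hom) (l.symm v)
    simp only [LinearMap.comp_apply] at h1
    rw [LinearEquiv.conj_apply_apply]
    refine h1.trans ?_
    exact congrArg (phi N) (l.apply_symm_apply v)
  show LinearMap.trace ℂ _ (phi M) = LinearMap.trace ℂ _ (phi N)
  rw [← h, LinearMap.trace_conj']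

theorem bd_iso {M N : ModuleCat.{u} (Polynomial ℂ)} (e : M ≅ N) {b : ℝ} {D : ℕ} (h : Bd M b D) :
    Bd N b D :=
  (SES.bd (A := N) (B := M) (C := ModuleCat.of _ PUnit.{u+1})
    ⟨e.inv, 0, e.symm.toLinearEquiv.injective, fun x => ⟨0, Subsingleton.elim _ _⟩,
      fun x => ⟨fun _ => e.symm.toLinearEquiv.surjective x, fun _ => Subsingleton.elim _ _⟩⟩ h).1

theorem norm_tr_le {M : ModuleCat.{u} (Polynomial ℂ)} {B : ℝ} {D : ℕ} (hB : 0 ≤ B) (h : Bd M B D) :
    ‖tr M‖ ≤ D * B := by
  haveI := h.1
  refine (GrothLib.TraceSum25.norm_trace_le (phi M) h.2.2).trans ?_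
  exact mul_le_mul_of_nonneg_right (by exact_mod_cast h.2.1) hB

/-- The trace on the image of a morphism. -/
noncomputable def trIm {M N : ModuleCat.{u} (Polynomial ℂ)} (f : M ⟶ N) : ℂ :=
  tr (ModuleCat.of (Polynomial ℂ) (LinearMap.range f.hom))

noncomputable def sesKer {M N : ModuleCat.{u} (Polynomial ℂ)} (f : M ⟶ N) :
    SES (ModuleCat.of (Polynomial ℂ) (LinearMap.ker f.hom)) M
      (ModuleCat.of (Polynomial ℂ) (LinearMap.range f.hom)) where
  i := ModuleCat.ofHom (LinearMap.ker f.hom).subtype
  p := ModuleCat.ofHom f.hom.rangeRestrict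
  inj := Subtype.val_injective
  surj := LinearMap.surjective_rangeRestrict _
  exact := by
    show Function.Exact (LinearMap.ker f.hom).subtype f.hom.rangeRestrict
    rw [LinearMap.exact_iff, LinearMap.ker_rangeRestrict, Submodule.range_subtype]

theorem trIm_of_isZero {M N : ModuleCat.{u} (Polynomial ℂ)} (f : M ⟶ N) (h : IsZero M) : trIm f = 0 := by
  haveI := ModuleCat.subsingleton_of_isZero h
  haveI : Subsingleton (LinearMap.range f.hom) := (LinearMap.surjective_rangeRestrict f.hom).subsingleton
  exact tr_of_isZero (ModuleCat.isZero_of_subsingleton _)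

/-- The trace on the homology of a short complex. -/
theorem homology_tr (S : ShortComplex (ModuleCat.{u} (Polynomial ℂ))) {b : ℝ} {D : ℕ} (h : Bd S.X₂ b D) :
    Bd S.homology b D ∧ tr S.X₂ = trIm S.f + trIm S.g + tr S.homology := by
  haveI := h.1
  have hk := (sesKer S.g).bd h
  have e2 : SES (ModuleCat.of (Polynomial ℂ) (LinearMap.range S.moduleCatToCycles))
      (ModuleCat.of (Polynomial ℂ) (LinearMap.ker S.g.hom))
      (ModuleCat.of (Polynomial ℂ) (LinearMap.ker S.g.hom ⧸ LinearMap.range S.moduleCatToCycles)) :=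
    { i := ModuleCat.ofHom (LinearMap.range S.moduleCatToCycles).subtype
      p := ModuleCat.ofHom (LinearMap.range S.moduleCatToCycles).mkQ
      inj := Subtype.val_injective
      surj := Submodule.mkQ_surjective _
      exact := by
        show Function.Exact (LinearMap.range S.moduleCatToCycles).subtype
          (LinearMap.range S.moduleCatToCycles).mkQ
        rw [LinearMap.exact_iff, Submodule.ker_mkQ, Submodule.range_subtype] }
  refine ⟨bd_iso S.moduleCatHomologyIso.symm (e2.bd hk.1).2, ?_⟩
  haveI := hk.1.1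
  have hH : tr S.homology = tr (ModuleCat.of (Polynomial ℂ)
      (LinearMap.ker S.g.hom ⧸ LinearMap.range S.moduleCatToCycles)) := tr_iso S.moduleCatHomologyIso
  rw [(sesKer S.g).tr_eq, e2.tr_eq, hH]
  have h1 : Submodule.map (LinearMap.ker S.g.hom).subtype (LinearMap.range S.moduleCatToCycles) =
      LinearMap.range S.f.hom := by
    rw [← LinearMap.range_comp]
    rfl
  let l : LinearMap.range S.moduleCatToCycles ≃ₗ[Polynomial ℂ] LinearMap.range S.f.hom :=
    (Submodule.equivMapOfInjective _ (LinearMap.ker S.g.hom).injective_subtype _).trans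
      (LinearEquiv.ofEq _ _ h1)
  rw [tr_iso l.toModuleIso]
  show _ + trIm S.g = trIm S.f + trIm S.g + _
  unfold trIm
  abel

end GrothLib.SSTrace25
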