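import Groth.Agent.Lib.SSTrace25.Basic
import Mathlib.Topology.Algebra.InfiniteSum.Ring
import Mathlib.Analysis.Normed.Group.InfiniteSum
import Mathlib.Algebra.Ring.NegOnePow

/-!
# Turning a page keeps the alternating sum of traces
-/

set_option autoImplicit false
set_option linter.all false

universe u

open CategoryTheory CategoryTheory.Limits

namespace GrothLib.SSTrace25

/-- The boundedness condition on a family indexed by the plane. -/
def Cond (V : ℤ × ℤ → ModuleCat.{u} (Polynomial ℂ)) (N : ℕ) (a c : ℕ → ℝ) (b d : ℕ → ℕ) : Prop :=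
  (∀ x : ℤ × ℤ, x.1 < 0 ∨ x.2 < 0 → IsZero (V x)) ∧
    (∀ x : ℤ × ℤ, Module.Finite ℂ (Res (V x))) ∧
    (∀ p q : ℕ, N < q → IsZero (V ((p : ℤ), (q : ℤ)))) ∧
    (∀ (p q : ℕ) (μ : ℂ), Module.End.HasEigenvalue (phi (V ((p : ℤ), (q : ℤ)))) μ → ‖μ‖ ≤ a q * c p) ∧
    (∀ p q : ℕ, Module.finrank ℂ (Res (V ((p : ℤ), (q : ℤ)))) ≤ b q * d p)

/-- The sign of a position. -/
noncomputable def sgn (x : ℤ × ℤ) : ℂ := (((x.1 + x.2).negOnePow : ℤˣ) : ℤ)

theorem norm_sgn (x : ℤ × ℤ) : ‖sgn x‖ = 1 := by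
  unfold sgn
  rcases Int.units_eq_one_or (x.1 + x.2).negOnePow with h | h <;> simp [h]

theorem sgn_natCast (p q : ℕ) : sgn ((p : ℤ), (q : ℤ)) = (-1 : ℂ) ^ (p + q) := by
  unfold sgn
  rw [← Nat.cast_add, Int.negOnePow_def, zpow_natCast]
  push_cast
  rfl

/-- The dominating function. -/
noncomputable def omega (N : ℕ) (a c : ℕ → ℝ) (b d : ℕ → ℕ) (x : ℤ × ℤ) : ℝ :=
  if 0 ≤ x.1 ∧ 0 ≤ x.2 ∧ x.2 ≤ N then
    (b x.2.toNat * d x.1.toNat : ℝ) * (a x.2.toNat * c x.1.toNat) else 0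

variable {N : ℕ} {a c : ℕ → ℝ} {b d : ℕ → ℕ}

theorem omega_nonneg (ha : ∀ q, 0 ≤ a q) (hc : ∀ p, 0 ≤ c p) (x : ℤ × ℤ) :
    0 ≤ omega N a c b d x := by
  unfold omega
  split_ifs
  · exact mul_nonneg (mul_nonneg (Nat.cast_nonneg _) (Nat.cast_nonneg _)) (mul_nonneg (ha _) (hc _))
  · exact le_rfl

theorem cast_injective : Function.Injective (fun pq : ℕ × ℕ => (((pq.1 : ℤ), (pq.2 : ℤ)) : ℤ × ℤ)) := by
  rintro ⟨p, q⟩ ⟨p', q'⟩ h
  simp only [Prod.mk.injEq, Nat.cast_inj] at h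
  rw [h.1, h.2]

theorem summable_omega (ha : ∀ q, 0 ≤ a q) (hc : ∀ p, 0 ≤ c p)
    (hsum : Summable fun p : ℕ => c p * (d p : ℝ)) : Summable (omega N a c b d) := by
  refine (cast_injective.summable_iff ?_).1 ?_
  · intro x hx
    unfold omega
    rw [if_neg]
    rintro ⟨h1, h2, _⟩
    exact hx ⟨(x.1.toNat, x.2.toNat), Prod.ext (Int.toNat_of_nonneg h1) (Int.toNat_of_nonneg h2)⟩
  · let g : ℕ → ℝ := fun q => if q ≤ N then a q * b q else 0
    have hg : ∀ q, 0 ≤ g q := fun q => by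
      simp only [g]; split_ifs
      · exact mul_nonneg (ha q) (Nat.cast_nonneg _)
      · exact le_rfl
    have hgs : Summable g := summable_of_ne_finset_zero (s := Finset.range (N + 1)) fun q hq => by
      simp only [Finset.mem_range] at hq
      simp only [g]
      rw [if_neg (by omega)]
    refine (hsum.mul_of_nonneg hgs (fun p => mul_nonneg (hc p) (Nat.cast_nonneg _)) hg).congr ?_
    rintro ⟨p, q⟩
    simp only [Function.comp_apply, omega, g, Int.toNat_natCast]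
    by_cases hq : q ≤ N
    · rw [if_pos hq, if_pos ⟨Int.natCast_nonneg p, Int.natCast_nonneg q, by exact_mod_cast hq⟩]
      ring
    · rw [if_neg hq, if_neg fun h => hq (by exact_mod_cast h.2.2), mul_zero]

theorem Cond.bd {V : ℤ × ℤ → ModuleCat.{u} (Polynomial ℂ)} (h : Cond V N a c b d) (p q : ℕ) :
    Bd (V ((p : ℤ), (q : ℤ))) (a q * c p) (b q * d p) :=
  ⟨h.2.1 _, h.2.2.2.2 p q, h.2.2.2.1 p q⟩

theorem Cond.isZero {V : ℤ × ℤ → ModuleCat.{u} (Polynomial ℂ)} (h : Cond V N a c b d) (x : ℤ × ℤ)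
    (hx : ¬(0 ≤ x.1 ∧ 0 ≤ x.2 ∧ x.2 ≤ N)) : IsZero (V x) := by
  obtain ⟨x1, x2⟩ := x
  simp only at hx
  by_cases h1 : 0 ≤ x1 ∧ 0 ≤ x2
  · lift x1 to ℕ using h1.1
    lift x2 to ℕ using h1.2
    exact h.2.2.1 x1 x2 (by omega)
  · exact h.1 _ (by omega)

/-- A bound valid at every position. -/
theorem Cond.norm_le {V : ℤ × ℤ → ModuleCat.{u} (Polynomial ℂ)} (ha : ∀ q, 0 ≤ a q) (hc : ∀ p, 0 ≤ c p)
    (h : Cond V N a c b d) (x : ℤ × ℤ) {W : ModuleCat.{u} (Polynomial ℂ)}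
    (hW : ∀ (B : ℝ) (D : ℕ), Bd (V x) B D → Bd W B D) (hW0 : IsZero (V x) → tr W = 0) :
    ‖tr W‖ ≤ omega N a c b d x := by
  by_cases hx : 0 ≤ x.1 ∧ 0 ≤ x.2 ∧ x.2 ≤ N
  · obtain ⟨x1, x2⟩ := x
    simp only at hx
    lift x1 to ℕ using hx.1
    lift x2 to ℕ using hx.2.1
    refine (norm_tr_le (mul_nonneg (ha x2) (hc x1)) (hW _ _ (h.bd x1 x2))).trans ?_
    unfold omega
    rw [if_pos hx]
    simp
  · rw [hW0 (h.isZero x hx), norm_zero]
    exact omega_nonneg ha hc x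

theorem Cond.summable_norm {V : ℤ × ℤ → ModuleCat.{u} (Polynomial ℂ)} (ha : ∀ q, 0 ≤ a q)
    (hc : ∀ p, 0 ≤ c p) (hsum : Summable fun p : ℕ => c p * (d p : ℝ)) (h : Cond V N a c b d) :
    Summable fun x => ‖sgn x * tr (V x)‖ := by
  refine Summable.of_nonneg_of_le (fun _ => norm_nonneg _) (fun x => ?_) (summable_omega ha hc hsum (b := b) (N := N))
  rw [norm_mul, norm_sgn, one_mul]
  exact h.norm_le ha hc x (fun _ _ h => h) tr_of_isZero

/-- The sum over the plane is the sum over the quadrant. -/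
theorem Cond.tsum_quadrant {V : ℤ × ℤ → ModuleCat.{u} (Polynomial ℂ)} (h : Cond V N a c b d) :
    ∑' pq : ℕ × ℕ, (-1 : ℂ) ^ (pq.1 + pq.2) * tr (V ((pq.1 : ℤ), (pq.2 : ℤ))) =
      ∑' x, sgn x * tr (V x) := by
  have hsupp : Function.support (fun x => sgn x * tr (V x)) ⊆
      Set.range (fun pq : ℕ × ℕ => (((pq.1 : ℤ), (pq.2 : ℤ)) : ℤ × ℤ)) := by
    intro x hx
    by_contra hn
    refine hx ?_
    show sgn x * tr (V x) = 0
    rw [tr_of_isZero (h.1 x ?_), mul_zero]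
    by_contra hh
    refine hn ⟨(x.1.toNat, x.2.toNat), Prod.ext (Int.toNat_of_nonneg ?_) (Int.toNat_of_nonneg ?_)⟩ <;> omega
  rw [← cast_injective.tsum_eq hsupp]
  exact tsum_congr fun pq => by rw [sgn_natCast]

variable (E : CohomologicalSpectralSequence (ModuleCat.{u} (Polynomial ℂ)) 2)

set_option maxHeartbeats 1600000 in
/-- One page turn. -/
theorem page_succ (r : ℤ) (hr : 2 ≤ r) (hr' : 2 ≤ r + 1) (ha : ∀ q, 0 ≤ a q) (hc : ∀ p, 0 ≤ c p)
    (hsum : Summable fun p : ℕ => c p * (d p : ℝ))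
    (h : Cond (E.page r hr).X N a c b d) :
    Cond (E.page (r + 1) hr').X N a c b d ∧
      ∑' x, sgn x * tr ((E.page (r + 1) hr').X x) = ∑' x, sgn x * tr ((E.page r hr).X x) := by
  let e : ℤ × ℤ := (r, 1 - r)
  let K := E.page r hr
  let S : ∀ x, ShortComplex (ModuleCat.{u} (Polynomial ℂ)) := fun x => K.sc' (x - e) x (x + e)
  have i : ∀ x, (S x).homology ≅ (E.page (r + 1) hr').X x := fun x =>
    (K.homologyIsoSc' (x - e) x (x + e) (ComplexShape.prev_eq' _ (sub_add_cancel x e))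
      (ComplexShape.next_eq' _ rfl)).symm ≪≫ E.iso r (r + 1) x rfl hr
  have hbd : ∀ x (B : ℝ) (D : ℕ), Bd (K.X x) B D → Bd ((E.page (r + 1) hr').X x) B D :=
    fun x B D hB => bd_iso (i x) (homology_tr (S x) hB).1
  have hz : ∀ x, IsZero (K.X x) → IsZero ((E.page (r + 1) hr').X x) := fun x hx =>
    ((ShortComplex.exact_iff_isZero_homology _).1 (ShortComplex.exact_of_isZero_X₂ (S x) hx)).of_iso
      (i x).symm
  have hC : Cond (E.page (r + 1) hr').X N a c b d := by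
    refine ⟨fun x hx => hz x (h.1 x hx), fun x => ?_, fun p q hq => hz _ (h.2.2.1 p q hq),
      fun p q => (hbd _ _ _ (h.bd p q)).2.2, fun p q => (hbd _ _ _ (h.bd p q)).2.1⟩
    by_cases hx : 0 ≤ x.1 ∧ 0 ≤ x.2 ∧ x.2 ≤ N
    · obtain ⟨x1, x2⟩ := x
      simp only at hx
      lift x1 to ℕ using hx.1
      lift x2 to ℕ using hx.2.1
      exact (hbd _ _ _ (h.bd x1 x2)).1
    · exact finite_of_isZero (hz x (h.isZero x hx))
  refine ⟨hC, ?_⟩
  let σ : ℤ × ℤ → ℂ := fun x => sgn x * trIm (K.d x (x + e))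
  have htr : ∀ x, tr (K.X x) = trIm (K.d (x - e) x) + trIm (K.d x (x + e)) +
      tr ((E.page (r + 1) hr').X x) := by
    intro x
    haveI := h.2.1 x
    rw [← tr_iso (i x)]
    by_cases hx : 0 ≤ x.1 ∧ 0 ≤ x.2 ∧ x.2 ≤ N
    · obtain ⟨x1, x2⟩ := x
      simp only at hx
      lift x1 to ℕ using hx.1
      lift x2 to ℕ using hx.2.1
      exact (homology_tr (S _) (h.bd x1 x2)).2
    · exact (homology_tr (S x) (bd_of_isZero (h.isZero x hx) 0 0)).2
  have hsgn : ∀ x, sgn (x - e) = - sgn x := by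
    intro x
    unfold sgn
    rw [show (x - e).1 + (x - e).2 = (x.1 + x.2) - 1 by simp [e]; omega, Int.negOnePow_sub,
      Int.negOnePow_one]
    simp
  have hσ : Summable fun x => ‖σ x‖ := by
    refine Summable.of_nonneg_of_le (fun _ => norm_nonneg _) (fun x => ?_) (summable_omega ha hc hsum (b := b) (N := N))
    simp only [σ]
    rw [norm_mul, norm_sgn, one_mul]
    exact h.norm_le ha hc x (fun B D hB => ((sesKer (K.d x (x + e))).bd hB).2) (trIm_of_isZero _)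
  have hσ' : Summable σ := hσ.of_norm
  have hτ : Summable fun x => sgn x * tr (K.X x) := (h.summable_norm ha hc hsum).of_norm
  let f : ℤ × ℤ ≃ ℤ × ℤ := Equiv.subRight e
  have hσe : Summable fun x => σ (f x) := f.summable_iff.2 hσ'
  have hpt : ∀ x, sgn x * tr ((E.page (r + 1) hr').X x) =
      sgn x * tr (K.X x) - σ x + σ (f x) := by
    intro x
    have hy : ∀ y, y = x → trIm (K.d (x - e) y) = trIm (K.d (x - e) x) := fun y hy => by subst hy; rfl
    simp only [σ, f, Equiv.subRight_apply, hsgn, hy _ (sub_add_cancel x e)]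
    rw [htr x]
    ring
  rw [tsum_congr hpt, Summable.tsum_add (hτ.sub hσ') hσe, Summable.tsum_sub hτ hσ', f.tsum_eq]
  ring

end GrothLib.SSTrace25
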